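import Cfsg.Agent.Lib.OmegaSevenThree.Group
import Mathlib.GroupTheory.Sylow

/-! A Sylow `3`-subgroup of `Ω₇(3)` as a product of two tables. -/

set_option autoImplicit false

namespace CfsgLib.OmegaSevenThree

open Matrix

def vM (i : ℕ) : M7 := (vTab.getD (i / 81) []).getD (i % 81) M7.one

def hM (j : ℕ) : M7 := hTab.getD j M7.one

def vPow : ℕ → ℕ
  | 0 => 81
  | 1 => 27
  | 2 => 9
  | 3 => 3
  | _ => 1

/-- Increment digit `a`. -/
def vInc (a i : ℕ) : ℕ := if i / vPow a % 3 = 2 then i - 2 * vPow a else i + vPow a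

/-- The first non-zero digit. -/
def vFst (i : ℕ) : ℕ :=
  if 81 ≤ i then 0 else if 27 ≤ i then 1 else if 9 ≤ i then 2 else if 3 ≤ i then 3 else 4

/-- The first non-zero digit. -/
def hFst (j : ℕ) : ℕ := if 27 ≤ j then 0 else if 9 ≤ j then 1 else if 3 ≤ j then 2 else 3

def hPow : ℕ → ℕ
  | 0 => 27
  | 1 => 9
  | 2 => 3
  | _ => 1

def hStep (a j : ℕ) : ℕ := (hMove.getD a []).getD j 0

def vStep (a i : ℕ) : ℕ := (vConj.getD a []).getD i 0

theorem v_check : (List.range 243).all (fun i => (List.range 5).all (fun a =>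
    decide (vInc a i < 243) && M7.beq (M7.mul (genM a) (vM i)) (vM (vInc a i)))) = true := by
  decide +kernel

theorem h_check : (List.range 81).all (fun j => (List.range 4).all (fun a =>
    decide (hStep a j < 81) && M7.beq (M7.mul (genM (5 + a)) (hM j)) (hM (hStep a j)))) = true := by
  decide +kernel

theorem c_check : (List.range 243).all (fun i => (List.range 4).all (fun a =>
    decide (vStep a i < 243) && M7.beq (M7.mul (genM (5 + a)) (vM i)) (M7.mul (vM (vStep a i)) (genM (5 + a))))) = true := by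
  decide +kernel

theorem vpred_check : (List.range 243).all (fun i => i == 0 ||
    (decide (vPow (vFst i) ≤ i) && (vInc (vFst i) (i - vPow (vFst i)) == i) && decide (0 < vPow (vFst i)))) = true := by
  decide +kernel

theorem hpred_check : (List.range 81).all (fun j => j == 0 ||
    (decide (hPow (hFst j) ≤ j) && (hStep (hFst j) (j - hPow (hFst j)) == j) && decide (0 < hPow (hFst j)))) = true := by
  decide +kernel

theorem zero_check : (M7.beq (vM 0) M7.one && M7.beq (hM 0) M7.one) = true := by decide +kernel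

def yVec : V7 := ⟨0, 0, 0, 0, 1, 0, 0⟩

theorem fix_check : (List.range 81).all (fun j => ((hM j).mv yVec).beq yVec) = true := by decide +kernel

theorem vy_check : (List.range 243).all (fun i => (List.range i).all fun k =>
    !(((vM i).mv yVec).beq ((vM k).mv yVec))) = true := by
  decide +kernel

theorem hd_check : (List.range 81).all (fun j => (List.range j).all fun k => !(M7.beq (hM j) (hM k))) = true := by
  decide +kernel

theorem v_mul {a i : ℕ} (ha : a < 5) (hi : i < 243) :
    vInc a i < 243 ∧ M7.mul (genM a) (vM i) = vM (vInc a i) := by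
  have h := List.all_eq_true.1 (List.all_eq_true.1 v_check i (List.mem_range.2 hi)) a (List.mem_range.2 ha)
  simp only [Bool.and_eq_true, decide_eq_true_eq] at h
  exact ⟨h.1, M7.eq_of_beq h.2⟩

theorem h_mul {a j : ℕ} (ha : a < 4) (hj : j < 81) :
    hStep a j < 81 ∧ M7.mul (genM (5 + a)) (hM j) = hM (hStep a j) := by
  have h := List.all_eq_true.1 (List.all_eq_true.1 h_check j (List.mem_range.2 hj)) a (List.mem_range.2 ha)
  simp only [Bool.and_eq_true, decide_eq_true_eq] at h
  exact ⟨h.1, M7.eq_of_beq h.2⟩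

theorem c_mul {a i : ℕ} (ha : a < 4) (hi : i < 243) :
    vStep a i < 243 ∧ M7.mul (genM (5 + a)) (vM i) = M7.mul (vM (vStep a i)) (genM (5 + a)) := by
  have h := List.all_eq_true.1 (List.all_eq_true.1 c_check i (List.mem_range.2 hi)) a (List.mem_range.2 ha)
  simp only [Bool.and_eq_true, decide_eq_true_eq] at h
  exact ⟨h.1, M7.eq_of_beq h.2⟩

theorem vFst_lt (i : ℕ) : vFst i < 5 := by unfold vFst; split_ifs <;> omega

theorem hFst_lt (j : ℕ) : hFst j < 4 := by unfold hFst; split_ifs <;> omega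

/-- The generated subgroup. -/
def U3 : Subgroup O7 := Subgroup.closure (Set.range fun a : Fin 9 => genO a)

theorem gen_mem_U3 {a : ℕ} (ha : a < 9) : genO a ∈ U3 := Subgroup.subset_closure ⟨⟨a, ha⟩, rfl⟩

theorem U3_le : U3 ≤ Om := (Subgroup.closure_le _).2 (by rintro _ ⟨a, rfl⟩; exact genO_mem _)

theorem exists_v : ∀ i, i < 243 → ∃ x ∈ U3, mat x = toMat (vM i) := by
  intro i
  induction i using Nat.strong_induction_on with
  | _ i ih =>
    intro hi
    rcases Nat.eq_zero_or_pos i with rfl | hpos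
    · refine ⟨1, one_mem _, ?_⟩
      have h := zero_check
      simp only [Bool.and_eq_true] at h
      rw [M7.eq_of_beq h.1, toMat_one, mat_one]
    · have h := List.all_eq_true.1 vpred_check i (List.mem_range.2 hi)
      simp only [Bool.or_eq_true, Bool.and_eq_true, beq_iff_eq, decide_eq_true_eq] at h
      obtain ⟨⟨h1, h2⟩, h3⟩ := h.resolve_left (by omega)
      obtain ⟨x, hx, hm⟩ := ih (i - vPow (vFst i)) (by omega) (by omega)
      refine ⟨genO (vFst i) * x, mul_mem (gen_mem_U3 (lt_trans (vFst_lt i) (by norm_num))) hx, ?_⟩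
      rw [mat_mul, hm, mat_genO, ← toMat_mul, (v_mul (vFst_lt i) (by omega)).2, h2]

theorem exists_h : ∀ j, j < 81 → ∃ x ∈ U3, mat x = toMat (hM j) := by
  intro j
  induction j using Nat.strong_induction_on with
  | _ j ih =>
    intro hj
    rcases Nat.eq_zero_or_pos j with rfl | hpos
    · refine ⟨1, one_mem _, ?_⟩
      have h := zero_check
      simp only [Bool.and_eq_true] at h
      rw [M7.eq_of_beq h.2, toMat_one, mat_one]
    · have h := List.all_eq_true.1 hpred_check j (List.mem_range.2 hj)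
      simp only [Bool.or_eq_true, Bool.and_eq_true, beq_iff_eq, decide_eq_true_eq] at h
      obtain ⟨⟨h1, h2⟩, h3⟩ := h.resolve_left (by omega)
      obtain ⟨x, hx, hm⟩ := ih (j - hPow (hFst j)) (by omega) (by omega)
      have hf := hFst_lt j
      refine ⟨genO (5 + hFst j) * x, mul_mem (gen_mem_U3 (by omega)) hx, ?_⟩
      rw [mat_mul, hm, mat_genO, ← toMat_mul, (h_mul hf (by omega)).2, h2]

theorem mem_table {x : O7} (hx : x ∈ U3) :
    ∃ i j, i < 243 ∧ j < 81 ∧ mat x = toMat (M7.mul (vM i) (hM j)) := by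
  have step : ∀ a, a < 9 → ∀ y : O7, (∃ i j, i < 243 ∧ j < 81 ∧ mat y = toMat (M7.mul (vM i) (hM j))) →
      ∃ i j, i < 243 ∧ j < 81 ∧ mat (genO a * y) = toMat (M7.mul (vM i) (hM j)) := by
    rintro a ha y ⟨i, j, hi, hj, hy⟩
    rcases lt_or_ge a 5 with h5 | h5
    · obtain ⟨hlt, e⟩ := v_mul h5 hi
      refine ⟨_, j, hlt, hj, ?_⟩
      rw [mat_mul, hy, mat_genO, toMat_mul, ← mul_assoc, ← toMat_mul, e, ← toMat_mul]
    · obtain ⟨b, rfl⟩ := Nat.exists_eq_add_of_le h5
      obtain ⟨hlt, e⟩ := c_mul (a := b) (by omega) hi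
      obtain ⟨hlt', e'⟩ := h_mul (a := b) (by omega) hj
      refine ⟨_, _, hlt, hlt', ?_⟩
      rw [mat_mul, hy, mat_genO, toMat_mul, ← mul_assoc, ← toMat_mul, e, toMat_mul, mul_assoc,
        ← toMat_mul, e', ← toMat_mul]
  induction hx using Subgroup.closure_induction_left with
  | one =>
    refine ⟨0, 0, by norm_num, by norm_num, ?_⟩
    have h := zero_check
    simp only [Bool.and_eq_true] at h
    rw [toMat_mul, M7.eq_of_beq h.1, M7.eq_of_beq h.2, toMat_one, one_mul, mat_one]
  | mul_left g hg y _ ih =>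
    obtain ⟨a, rfl⟩ := hg
    exact step a a.2 y ih
  | inv_mul_cancel g hg y _ ih =>
    obtain ⟨a, rfl⟩ := hg
    rw [genO_inv, mul_assoc]
    exact step a a.2 _ (step a a.2 y ih)

theorem toVec_inj_get {u v : V7} (h : toVec u = toVec v) (hu : ∀ k, u.get k < 3) (hv : ∀ k, v.get k < 3) : u = v := by
  have key : ∀ k : Fin 7, u.get k = v.get k := fun k => by
    have e : ix (ix' k) = k := by revert k; decide
    have := congrFun h (ix' k)
    rw [toVec, toVec, e] at this
    simpa [ZMod.natCast_eq_natCast_iff', Nat.mod_eq_of_lt (hu k), Nat.mod_eq_of_lt (hv k)] using this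
  obtain ⟨a, b, c, d, e, f, g⟩ := u
  obtain ⟨a', b', c', d', e', f', g'⟩ := v
  exact V7.mk.injEq .. ▸ ⟨key 0, key 1, key 2, key 3, key 4, key 5, key 6⟩

theorem mv_lt (M : M7) (v : V7) (k : Fin 7) : (M.mv v).get k < 3 := by
  fin_cases k <;> exact Nat.mod_lt _ (by norm_num)

theorem toMat_inj_get {A B : M7} (h : toMat A = toMat B) (hA : ∀ i j, (A.get i).get j < 3)
    (hB : ∀ i j, (B.get i).get j < 3) : A = B := by
  have key : ∀ k, A.get k = B.get k := fun k => toVec_inj_get (funext fun j => by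
    have e : ix (ix' k) = k := by revert k; decide
    have := congrFun (congrFun h (ix' k)) j
    simp only [toMat, Matrix.of_apply, e] at this
    exact this) (hA k) (hB k)
  obtain ⟨a, b, c, d, e, f, g⟩ := A
  obtain ⟨a', b', c', d', e', f', g'⟩ := B
  exact M7.mk.injEq .. ▸ ⟨key 0, key 1, key 2, key 3, key 4, key 5, key 6⟩

theorem hM_lt_check : (List.range 81).all (fun j => ([0, 1, 2, 3, 4, 5, 6] : List (Fin 7)).all fun a =>
    ([0, 1, 2, 3, 4, 5, 6] : List (Fin 7)).all fun b => decide (((hM j).get a).get b < 3)) = true := by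
  decide +kernel

theorem card_U3 : Nat.card U3 = 19683 := by
  have hv := fun i : Fin 243 => exists_v i i.2
  have hh := fun j : Fin 81 => exists_h j j.2
  choose fv hfv hmv using hv
  choose fh hfh hmh using hh
  let f : Fin 243 × Fin 81 → U3 := fun p => ⟨fv p.1 * fh p.2, mul_mem (hfv _) (hfh _)⟩
  have hsurj : Function.Surjective f := by
    rintro ⟨x, hx⟩
    obtain ⟨i, j, hi, hj, he⟩ := mem_table hx
    refine ⟨(⟨i, hi⟩, ⟨j, hj⟩), Subtype.ext (mat_injective ?_)⟩
    show mat (fv _ * fh _) = mat x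
    rw [mat_mul, hmv, hmh, he, toMat_mul]
  have hinj : Function.Injective f := by
    rintro ⟨i, j⟩ ⟨i', j'⟩ h
    have h1 : mat (fv i * fh j) = mat (fv i' * fh j') := congrArg (fun x : U3 => mat x.1) h
    rw [mat_mul, mat_mul, hmv, hmh, hmv, hmh] at h1
    have hfix : ∀ j : Fin 81, toMat (hM j) *ᵥ toVec yVec = toVec yVec := fun j => by
      rw [← toVec_mv, V7.eq_of_beq (List.all_eq_true.1 fix_check j.val (List.mem_range.2 j.2))]
    have h2 := congrArg (fun A => A *ᵥ toVec yVec) h1
    simp only [← Matrix.mulVec_mulVec, hfix, ← toVec_mv] at h2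
    have h3 := toVec_inj_get h2 (mv_lt _ _) (mv_lt _ _)
    have hb : ∀ a b : Fin 243, b.val < a.val → (vM a).mv yVec ≠ (vM b).mv yVec := fun a b hab he => by
      have h4 := List.all_eq_true.1 (List.all_eq_true.1 vy_check a.val (List.mem_range.2 a.2)) b.val
        (List.mem_range.2 hab)
      rw [he] at h4
      simp [V7.beq] at h4
    obtain rfl : i = i' := by
      rcases lt_trichotomy i.val i'.val with hl | hl | hl
      · exact absurd h3.symm (hb _ _ hl)
      · exact Fin.ext hl
      · exact absurd h3 (hb _ _ hl)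
    have h5 : fh j = fh j' := mul_left_cancel (a := fv i) (congrArg Subtype.val h)
    have h6 : toMat (hM j) = toMat (hM j') := by rw [← hmh, ← hmh, h5]
    have hlt : ∀ (k : Fin 81) (a b : Fin 7), ((hM k).get a).get b < 3 := fun k a b => by
      have h7 := List.all_eq_true.1 (List.all_eq_true.1 (List.all_eq_true.1 hM_lt_check k.val
        (List.mem_range.2 k.2)) a (by fin_cases a <;> simp)) b (by fin_cases b <;> simp)
      simpa using h7
    have h8 := toMat_inj_get h6 (hlt j) (hlt j')
    have hd : ∀ a b : Fin 81, b.val < a.val → hM a ≠ hM b := fun a b hab he => by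
      have h4 := List.all_eq_true.1 (List.all_eq_true.1 hd_check a.val (List.mem_range.2 a.2)) b.val
        (List.mem_range.2 hab)
      rw [he] at h4
      simp [M7.beq, V7.beq] at h4
    obtain rfl : j = j' := by
      rcases lt_trichotomy j.val j'.val with hl | hl | hl
      · exact absurd h8.symm (hd _ _ hl)
      · exact Fin.ext hl
      · exact absurd h8 (hd _ _ hl)
    rfl
  rw [← Nat.card_eq_of_bijective f ⟨hinj, hsurj⟩, Nat.card_prod, Nat.card_fin, Nat.card_fin]

/-- Every element of order three of `Ω₇(3)` is conjugate into the table. -/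
theorem exists_conj_mem_U3 {x : O7} (hx : x ∈ Om) (hx3 : x ^ 3 = 1) :
    ∃ g ∈ Om, g * x * g⁻¹ ∈ U3 := by
  haveI : Fact (Nat.Prime 3) := ⟨Nat.prime_three⟩
  have hU : Nat.card (U3.subgroupOf Om) = 3 ^ (Nat.card Om).factorization 3 := by
    rw [Nat.card_congr (Subgroup.subgroupOfEquivOfLe U3_le).toEquiv, card_U3, card_omega,
      show (4585351680 : ℕ) = 3 ^ 9 * 232960 by norm_num,
      Nat.factorization_mul (by norm_num) (by norm_num), Finsupp.add_apply,
      Nat.prime_three.factorization_pow, Finsupp.single_eq_same,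
      Nat.factorization_eq_zero_of_not_dvd (by norm_num)]
    norm_num
  let P : Sylow 3 Om := Sylow.ofCard (U3.subgroupOf Om) hU
  have hp : IsPGroup 3 (Subgroup.zpowers (⟨x, hx⟩ : Om)) := fun y => ⟨1, by
    obtain ⟨k, hk⟩ := y.2
    refine Subtype.ext ?_
    show (y : Om) ^ (3 ^ 1) = 1
    rw [← hk, pow_one]
    show ((⟨x, hx⟩ : Om) ^ k) ^ 3 = 1
    rw [← zpow_natCast, ← _root_.zpow_mul, mul_comm, _root_.zpow_mul, zpow_natCast,
      show (⟨x, hx⟩ : Om) ^ 3 = 1 from Subtype.ext hx3, _root_.one_zpow]⟩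
  obtain ⟨Q, hQ⟩ := hp.exists_le_sylow
  obtain ⟨g, hg⟩ := MulAction.exists_smul_eq Om Q P
  refine ⟨g, g.2, ?_⟩
  have h : g * ⟨x, hx⟩ * g⁻¹ ∈ (P : Subgroup Om) := by
    rw [← hg, Sylow.coe_subgroup_smul]
    exact Subgroup.smul_mem_pointwise_smul _ (MulAut.conj g) _ (hQ (Subgroup.mem_zpowers _))
  exact h

end CfsgLib.OmegaSevenThree
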