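import Cfsg.Agent.Lib.OmegaSevenThree.Bil
import Cfsg.Agent.Lib.OmegaSevenThree.Sylow
import Cfsg.Agent.Lib.OmegaSevenThree.Outer

/-! The centraliser of the fourth representative lies in `±Ω₇(3)`. -/

set_option autoImplicit false

namespace CfsgLib.OmegaSevenThree

open Matrix

/-- Membership in `±Ω`. -/
def Pm (g : O7) : Prop := g ∈ Om ∨ negO * g ∈ Om

theorem Pm.one : Pm 1 := Or.inl (one_mem _)

theorem Pm.mul {g h : O7} (hg : Pm g) (hh : Pm h) : Pm (g * h) := by
  rcases hg with hg | hg <;> rcases hh with hh | hh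
  · exact Or.inl (mul_mem hg hh)
  · exact Or.inr (by rw [← mul_assoc, negO_comm, mul_assoc]; exact mul_mem hg hh)
  · exact Or.inr (by rw [← mul_assoc]; exact mul_mem hg hh)
  · refine Or.inl ?_
    have e : g * h = (negO * g) * (negO * h) := by
      rw [negO_comm g, mul_assoc g, ← mul_assoc negO, negO_sq, one_mul]
    rw [e]; exact mul_mem hg hh

theorem Pm.inv {g : O7} (hg : Pm g) : Pm g⁻¹ := by
  rcases hg with hg | hg
  · exact Or.inl (inv_mem hg)
  · refine Or.inr ?_
    have e : negO * g⁻¹ = (negO * g)⁻¹ := by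
      rw [_root_.mul_inv_rev, inv_eq_of_mul_eq_one_right negO_sq, negO_comm]
    rw [e]; exact inv_mem hg

def diffV (u v : V7) : V7 :=
  ⟨(u.a + 2 * v.a) % 3, (u.b + 2 * v.b) % 3, (u.c + 2 * v.c) % 3, (u.d + 2 * v.d) % 3,
   (u.e + 2 * v.e) % 3, (u.f + 2 * v.f) % 3, (u.g + 2 * v.g) % 3⟩

theorem get_diffV (u v : V7) (k : Fin 7) : (diffV u v).get k = (u.get k + 2 * v.get k) % 3 := by
  fin_cases k <;> rfl

theorem toVec_diffV (u v : V7) : toVec (diffV u v) = toVec u - toVec v := by
  funext i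
  have h3 : (3 : ZMod 3) = 0 := by decide
  simp only [toVec, get_diffV, Pi.sub_apply, ZMod.natCast_mod, Nat.cast_add, Nat.cast_mul, Nat.cast_ofNat]
  linear_combination ((v.get (ix i) : ℕ) : ZMod 3) * h3

def nV (v : V7) : V7 := diffV ((repM 3).mv v) v

def chainV (c : V7) : ℕ → V7
  | 0 => c
  | i + 1 => nV (chainV c i)

def nF (v : I7 → ZMod 3) : I7 → ZMod 3 := mat (repO 3) *ᵥ v - v

def chainF (c : I7 → ZMod 3) : ℕ → I7 → ZMod 3
  | 0 => c
  | i + 1 => nF (chainF c i)

theorem toVec_chainV (c : V7) : ∀ i, toVec (chainV c i) = chainF (toVec c) i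
  | 0 => rfl
  | i + 1 => by rw [chainV, chainF, nV, nF, toVec_diffV, toVec_mv, toVec_chainV c i, mat_repO]

theorem chainV_lt (c : V7) (hc : ∀ k, c.get k < 3) : ∀ i k, (chainV c i).get k < 3
  | 0, k => hc k
  | i + 1, k => by rw [chainV, nV, get_diffV]; exact Nat.mod_lt _ (by norm_num)

theorem chainF_comm {g : O7} (hg : g * repO 3 = repO 3 * g) (c : I7 → ZMod 3) :
    ∀ i, chainF (mat g *ᵥ c) i = mat g *ᵥ chainF c i
  | 0 => rfl
  | i + 1 => by
    rw [chainF, chainF, chainF_comm hg c i, nF, nF, Matrix.mulVec_sub, Matrix.mulVec_mulVec,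
      Matrix.mulVec_mulVec, ← mat_mul, ← mat_mul, hg]

def wV (m : ℕ) : V7 := V7.dec (cW.getD m 0)

def zeroV : V7 := ⟨0, 0, 0, 0, 0, 0, 0⟩

def cond (l : ℕ) (c : V7) : Bool :=
  (List.range 3).all fun i => ((chainV c i).beq zeroV == (chainV (wV l) i).beq zeroV) &&
    (List.range 3).all fun j => (List.range (l + 1)).all fun m =>
      (bilV (chainV c i) (chainV (if m < l then wV m else c) j) % 3).beq
        (bilV (chainV (wV l) i) (chainV (wV m) j) % 3)

theorem cond_of {g : O7} (hg : g * repO 3 = repO 3 * g) {l : ℕ}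
    (hfix : ∀ m < l, mat g *ᵥ toVec (wV m) = toVec (wV m)) {c : V7} (hc : ∀ k, c.get k < 3)
    (hl : mat g *ᵥ toVec (wV l) = toVec c) : cond l c = true := by
  have hch : ∀ i, toVec (chainV c i) = mat g *ᵥ toVec (chainV (wV l) i) := fun i => by
    rw [toVec_chainV, toVec_chainV, ← hl, chainF_comm hg]
  have hm' : ∀ m ≤ l, ∀ i, toVec (chainV (if m < l then wV m else c) i) = mat g *ᵥ toVec (chainV (wV m) i) := by
    intro m hm i
    split_ifs with h
    · rw [toVec_chainV, ← chainF_comm hg, hfix m h]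
    · obtain rfl : m = l := by omega
      exact hch i
  have hinj : Function.Injective fun v => mat g *ᵥ v := fun u v h => by
    have := congrArg (fun w => mat g⁻¹ *ᵥ w) h
    simpa [Matrix.mulVec_mulVec, ← mat_mul, mat_one] using this
  have hz : toVec zeroV = 0 := funext fun i => by
    show (((zeroV.get (ix i)) : ℕ) : ZMod 3) = 0
    generalize ix i = k
    fin_cases k <;> rfl
  have hb : ∀ u : V7, (∀ k, u.get k < 3) → (u.beq zeroV = true ↔ toVec u = 0) := fun u hu => by
    refine ⟨fun h => by rw [V7.eq_of_beq h, hz], fun h => ?_⟩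
    rw [toVec_inj_get (h.trans hz.symm) hu (by intro k; fin_cases k <;> decide)]
    rfl
  simp only [cond, List.all_eq_true, List.mem_range, Bool.and_eq_true, beq_iff_eq, Nat.beq_eq]
  intro i hi
  refine ⟨?_, fun j hj m hm => ?_⟩
  · rw [Bool.eq_iff_iff, hb _ (chainV_lt c hc i), hb (chainV (wV l) i) (chainV_lt (wV l) (get_dec_lt _) i), hch]
    exact ⟨fun h => hinj (by simpa using h), fun h => by rw [h, Matrix.mulVec_zero]⟩
  · have := bil_mat g (toVec (chainV (wV l) i)) (toVec (chainV (wV m) j))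
    rw [← hch, ← hm' m (by omega), bil_toVec, bil_toVec, ZMod.natCast_eq_natCast_iff'] at this
    exact this

def treeL : ℕ → List (ℕ × ℕ × ℕ)
  | 0 => tree0
  | 1 => tree1
  | _ => tree2

def candCheck (l : ℕ) : Bool :=
  (List.range 2187).all fun n =>
    !(cond l (V7.dec n)) || (treeL l).any fun e => e.1.beq n

theorem cand0 : candCheck 0 = true := by decide +kernel
theorem cand1 : candCheck 1 = true := by decide +kernel
theorem cand2 : candCheck 2 = true := by decide +kernel

def kEntry (i : ℕ) : M7 × Bool × List ℕ := kGens.getD i (M7.one, false, [])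

def kO (i : ℕ) : O7 :=
  if (kEntry i).2.1 then negO * wordO (kEntry i).2.2 else wordO (kEntry i).2.2

theorem kGens_check : ((List.range 8).all fun i =>
    M7.beq (kEntry i).1 (if (kEntry i).2.1 then M7.mul M7.neg (wordM (kEntry i).2.2)
      else wordM (kEntry i).2.2)) = true := by
  decide +kernel

theorem kO_spec {i : ℕ} (hi : i < 8) : Pm (kO i) ∧ mat (kO i) = toMat (kEntry i).1 := by
  have h := M7.eq_of_beq (List.all_eq_true.1 kGens_check i (List.mem_range.2 hi))
  rw [h, kO]
  split_ifs with hs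
  · refine ⟨Or.inr ?_, ?_⟩
    · rw [← mul_assoc, negO_sq, one_mul]; exact wordO_mem _
    · rw [mat_mul, mat_wordO, mat_negO, toMat_mul, toMat_neg]
  · exact ⟨Or.inl (wordO_mem _), mat_wordO _⟩

def treeCheck (l : ℕ) : Bool :=
  (List.range (treeL l).length).all fun t =>
    match (treeL l).getD t (0, 0, 0) with
    | (c, k, p) =>
      if t = 0 then (V7.dec c).beq (wV l)
      else decide (p < t) && decide (k < 8) &&
        ((List.range l).all fun m => ((kEntry k).1.mv (wV m)).beq (wV m)) &&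
        M7.beq (M7.mul (kEntry k).1 (repM 3)) (M7.mul (repM 3) (kEntry k).1) &&
        ((kEntry k).1.mv (V7.dec ((treeL l).getD p (0, 0, 0)).1)).beq (V7.dec c)

theorem tree_check : (treeCheck 0 && treeCheck 1 && treeCheck 2) = true := by decide +kernel

theorem exists_tree {l : ℕ} (hl : l < 3) : ∀ t, t < (treeL l).length →
    ∃ k : O7, Pm k ∧ k * repO 3 = repO 3 * k ∧ (∀ m < l, mat k *ᵥ toVec (wV m) = toVec (wV m)) ∧
      mat k *ᵥ toVec (wV l) = toVec (V7.dec ((treeL l).getD t (0, 0, 0)).1) := by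
  have hT : treeCheck l = true := by
    have h := tree_check
    simp only [Bool.and_eq_true] at h
    rcases l with _ | _ | _ | l
    · exact h.1.1
    · exact h.1.2
    · exact h.2
    · omega
  intro t
  induction t using Nat.strong_induction_on with
  | _ t ih =>
    intro ht
    have h := List.all_eq_true.1 hT t (List.mem_range.2 ht)
    obtain ⟨c, k, p, he⟩ : ∃ c k p, (treeL l).getD t (0, 0, 0) = (c, k, p) := ⟨_, _, _, rfl⟩
    rw [he] at h ⊢
    simp only at h ⊢
    split at h
    · refine ⟨1, Pm.one, by rw [one_mul, mul_one], fun m _ => by rw [mat_one, Matrix.one_mulVec], ?_⟩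
      rw [mat_one, Matrix.one_mulVec, V7.eq_of_beq h]
    · simp only [Bool.and_eq_true, decide_eq_true_eq, List.all_eq_true, List.mem_range] at h
      obtain ⟨⟨⟨⟨hp, hk⟩, hf⟩, hc⟩, he'⟩ := h
      obtain ⟨q, hq, hqc, hqf, hql⟩ := ih p hp (by omega)
      obtain ⟨hP, hM⟩ := kO_spec hk
      refine ⟨kO k * q, hP.mul hq, ?_, fun m hm => ?_, ?_⟩
      · have hcomm : kO k * repO 3 = repO 3 * kO k := mat_injective (by
          rw [mat_mul, mat_mul, hM, mat_repO, ← toMat_mul, ← toMat_mul, M7.eq_of_beq hc])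
        rw [mul_assoc, hqc, ← mul_assoc, hcomm, mul_assoc]
      · rw [mat_mul, ← Matrix.mulVec_mulVec, hqf m hm, hM, ← toVec_mv, V7.eq_of_beq (hf m hm)]
      · rw [mat_mul, ← Matrix.mulVec_mulVec, hql, hM, ← toVec_mv, V7.eq_of_beq he']

theorem step_level {l : ℕ} (hl : l < 3) {g : O7} (hg : g * repO 3 = repO 3 * g)
    (hfix : ∀ m < l, mat g *ᵥ toVec (wV m) = toVec (wV m)) :
    ∃ h : O7, h * repO 3 = repO 3 * h ∧ (∀ m < l + 1, mat h *ᵥ toVec (wV m) = toVec (wV m)) ∧
      (Pm h → Pm g) := by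
  obtain ⟨n, hn⟩ := vecOf_bijective.2 (mat g *ᵥ toVec (wV l))
  have hc := cond_of hg hfix (get_dec_lt n) hn.symm
  have hall : candCheck l = true := by
    rcases l with _ | _ | _ | l
    · exact cand0
    · exact cand1
    · exact cand2
    · omega
  have h := List.all_eq_true.1 hall n.val (List.mem_range.2 n.2)
  rw [hc] at h
  simp only [Bool.not_true, Bool.false_or, List.any_eq_true, Nat.beq_eq] at h
  obtain ⟨e, hmem, he⟩ := h
  obtain ⟨t, ht, hte⟩ := List.mem_iff_getElem.1 hmem
  obtain ⟨k, hk, hkc, hkf, hkl⟩ := exists_tree hl t ht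
  rw [List.getD_eq_getElem _ _ ht, hte, he] at hkl
  refine ⟨k⁻¹ * g, ?_, fun m hm => ?_, fun hP => ?_⟩
  · have hkc' : k⁻¹ * repO 3 = repO 3 * k⁻¹ := (Commute.inv_left (show Commute k (repO 3) from hkc)).eq
    rw [mul_assoc, hg, ← mul_assoc, hkc', mul_assoc]
  · have hcancel : ∀ v, mat k *ᵥ v = mat g *ᵥ toVec (wV m) → mat (k⁻¹ * g) *ᵥ toVec (wV m) = v := fun v hv => by
      rw [mat_mul, ← Matrix.mulVec_mulVec, ← hv, Matrix.mulVec_mulVec, ← mat_mul, inv_mul_cancel,
        mat_one, Matrix.one_mulVec]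
    refine hcancel _ ?_
    rcases Nat.lt_succ_iff_lt_or_eq.1 hm with h' | h'
    · rw [hkf m h', hfix m h']
    · rw [h', hkl]; exact hn
  · have := hk.mul hP
    rwa [mul_inv_cancel_left] at this

theorem span_check : (M7.beq (M7.mul spanCols spanLeft) M7.one && ((List.range 7).all fun t =>
    decide ((spanSrc.getD t (0, 0)).1 < 3) &&
    (([spanCols.transpose.r0, spanCols.transpose.r1, spanCols.transpose.r2, spanCols.transpose.r3,
      spanCols.transpose.r4, spanCols.transpose.r5, spanCols.transpose.r6] : List V7).getD t zeroV).beq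
      (chainV (wV (spanSrc.getD t (0, 0)).1) (spanSrc.getD t (0, 0)).2))) = true := by
  decide +kernel

theorem eq_one_of_fix {g : O7} (hg : g * repO 3 = repO 3 * g)
    (hfix : ∀ m < 3, mat g *ᵥ toVec (wV m) = toVec (wV m)) : g = 1 := by
  have h := span_check
  simp only [Bool.and_eq_true, List.all_eq_true, List.mem_range, decide_eq_true_eq] at h
  obtain ⟨hinv, hcols⟩ := h
  have hcol : ∀ j, mat g *ᵥ (fun i => toMat spanCols i j) = fun i => toMat spanCols i j := by
    intro j
    have e : (fun i => toMat spanCols i j) = toVec (spanCols.transpose.get (ix j)) := by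
      funext i
      show toMat spanCols i j = toMat spanCols.transpose j i
      rw [toMat_transpose]; rfl
    obtain ⟨hlt, hb⟩ := hcols (ix j).val (ix j).2
    have e' : spanCols.transpose.get (ix j) =
        ([spanCols.transpose.r0, spanCols.transpose.r1, spanCols.transpose.r2, spanCols.transpose.r3,
          spanCols.transpose.r4, spanCols.transpose.r5, spanCols.transpose.r6] : List V7).getD (ix j).val zeroV := by
      generalize ix j = k
      fin_cases k <;> rfl
    rw [e, e', V7.eq_of_beq hb, toVec_chainV, ← chainF_comm hg, hfix _ hlt]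
  have hS : mat g * toMat spanCols = toMat spanCols := by
    ext i j
    exact congrFun (hcol j) i
  have hI := congrArg toMat (M7.eq_of_beq hinv)
  rw [toMat_mul, toMat_one] at hI
  refine mat_injective ?_
  rw [mat_one]
  calc mat g = mat g * (toMat spanCols * toMat spanLeft) := by rw [hI, mul_one]
    _ = 1 := by rw [← mul_assoc, hS, hI]

theorem centraliser {g : O7} (hg : g * repO 3 = repO 3 * g) : Pm g := by
  obtain ⟨a, ha, hfa, pa⟩ := step_level (l := 0) (by norm_num) hg (fun m hm => by omega)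
  obtain ⟨b, hb, hfb, pb⟩ := step_level (l := 1) (by norm_num) ha hfa
  obtain ⟨c, hc, hfc, pc⟩ := step_level (l := 2) (by norm_num) hb hfb
  exact pa (pb (pc (by rw [eq_one_of_fix hc hfc]; exact Pm.one)))

theorem split_check : (M7.beq (M7.mul (wordM invWord) (repM 3)) (M7.mul (M7.mul (repM 3) (repM 3)) (wordM invWord)) &&
    M7.beq (M7.mul (M7.mul (wordM splitWord) outer) (repM 3))
      (M7.mul (if splitSq then M7.mul (repM 4) (repM 4) else repM 4) (M7.mul (wordM splitWord) outer))) = true := by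
  decide +kernel

/-- The fourth and fifth representatives are not conjugate up to inversion. -/
theorem not_conj_split {g : O7} (hg : g ∈ Om)
    (h : g * repO 3 * g⁻¹ = repO 4 ∨ g * repO 3 * g⁻¹ = repO 4 ^ 2) : False := by
  have hs := split_check
  simp only [Bool.and_eq_true] at hs
  set u := wordO invWord with hu
  set t := if splitSq then repO 4 ^ 2 else repO 4 with ht
  have hu3 : u * repO 3 * u⁻¹ = repO 3 ^ 2 := conj_eq_of_mat (by
    rw [hu, mat_wordO, mat_sq, mat_repO, ← toMat_mul, ← toMat_mul, ← toMat_mul, M7.eq_of_beq hs.1])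
  have hT : wordO splitWord * outerO * repO 3 * (wordO splitWord * outerO)⁻¹ = t := conj_eq_of_mat (by
    rw [mat_mul, mat_wordO, ht]
    have := congrArg toMat (M7.eq_of_beq hs.2)
    rw [show mat outerO = toMat outer from rfl, mat_repO]
    simp only [toMat_mul] at this ⊢
    rcases hb : splitSq with _ | _ <;> simp_all [mat_repO, mat_sq, toMat_mul])
  obtain ⟨g', hg', hgt⟩ : ∃ g' ∈ Om, g' * repO 3 * g'⁻¹ = t := by
    have hflip : g * u * repO 3 * (g * u)⁻¹ = (g * repO 3 * g⁻¹) ^ 2 := by
      rw [conj_pow, ← hu3]; group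
    have hgu : g * u ∈ Om := mul_mem hg (wordO_mem _)
    have h4 : (repO 4 ^ 2) ^ 2 = repO 4 := by
      rw [← pow_mul, show 2 * 2 = 3 + 1 from rfl, pow_add, repO_cube, one_mul, pow_one]
    rw [ht]
    cases splitSq with
    | false =>
      rcases h with h | h
      · exact ⟨g, hg, h⟩
      · exact ⟨_, hgu, by rw [hflip, h, h4]; rfl⟩
    | true =>
      rcases h with h | h
      · exact ⟨_, hgu, by rw [hflip, h]; rfl⟩
      · exact ⟨g, hg, h⟩
  have hc : (wordO splitWord * outerO)⁻¹ * g' * repO 3 = repO 3 * ((wordO splitWord * outerO)⁻¹ * g') := by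
    refine mul_inv_eq_iff_eq_mul.1 ?_
    clear_value t
    generalize wordO splitWord * outerO = T at hT ⊢
    calc T⁻¹ * g' * repO 3 * (T⁻¹ * g')⁻¹ = T⁻¹ * (g' * repO 3 * g'⁻¹) * T := by group
      _ = T⁻¹ * (T * repO 3 * T⁻¹) * T := by rw [hgt, hT]
      _ = repO 3 := by group
  have hPm : Pm outerO⁻¹ := by
    have h1 : Pm ((wordO splitWord * outerO)⁻¹ * g') := centraliser hc
    have h2 : Pm (g'⁻¹ * wordO splitWord) := Or.inl (mul_mem (inv_mem hg') (wordO_mem _))
    have := h1.mul h2
    rwa [show (wordO splitWord * outerO)⁻¹ * g' * (g'⁻¹ * wordO splitWord) = outerO⁻¹ by group] at this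
  rcases hPm.inv with h' | h' <;> rw [inv_inv] at h'
  · exact outerO_not_mem h'
  · exact negO_mul_not_mem det_outerO h'

end CfsgLib.OmegaSevenThree
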