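import Cfsg.Agent.Lib.OmegaSevenThree.Bil

/-! An invariant of isometries under conjugation. -/

set_option autoImplicit false

namespace CfsgLib.OmegaSevenThree

open Matrix

def beta (x : O7) (v : I7 → ZMod 3) : ZMod 3 :=
  bil v (mat x *ᵥ (mat x *ᵥ v)) + bil v (mat x *ᵥ v) + bil v v

/-- Numbers of fixed vectors and of vectors with given value of the associated form. -/
noncomputable def invariant (x : O7) : ℕ × ℕ × ℕ :=
  (Nat.card {v // mat x *ᵥ v = v}, Nat.card {v // beta x v = 0}, Nat.card {v // beta x v = 1})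

/-- The bijection of vectors given by an isometry. -/
def actEquiv (g : O7) : (I7 → ZMod 3) ≃ (I7 → ZMod 3) where
  toFun v := mat g *ᵥ v
  invFun v := mat g⁻¹ *ᵥ v
  left_inv v := by
    show mat g⁻¹ *ᵥ (mat g *ᵥ v) = v
    rw [Matrix.mulVec_mulVec, ← mat_mul, inv_mul_cancel, mat_one, Matrix.one_mulVec]
  right_inv v := by
    show mat g *ᵥ (mat g⁻¹ *ᵥ v) = v
    rw [Matrix.mulVec_mulVec, ← mat_mul, mul_inv_cancel, mat_one, Matrix.one_mulVec]

theorem invariant_conj (g x : O7) : invariant (g * x * g⁻¹) = invariant x := by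
  have hc : ∀ v, mat (g * x * g⁻¹) *ᵥ (mat g *ᵥ v) = mat g *ᵥ (mat x *ᵥ v) := fun v => by
    rw [Matrix.mulVec_mulVec, Matrix.mulVec_mulVec, ← mat_mul, ← mat_mul, inv_mul_cancel_right]
  have hb : ∀ v, beta (g * x * g⁻¹) (mat g *ᵥ v) = beta x v := fun v => by
    simp only [beta, hc, bil_mat]
  have hinj : Function.Injective fun v => mat g *ᵥ v := (actEquiv g).injective
  refine (Prod.ext ?_ (Prod.ext ?_ ?_)).symm
  · exact Nat.card_congr ((actEquiv g).subtypeEquiv fun v =>
      ⟨fun h => by show mat (g * x * g⁻¹) *ᵥ (mat g *ᵥ v) = mat g *ᵥ v; rw [hc, h],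
       fun h => hinj (by
        have h' : mat (g * x * g⁻¹) *ᵥ (mat g *ᵥ v) = mat g *ᵥ v := h
        rwa [hc] at h')⟩)
  · exact Nat.card_congr ((actEquiv g).subtypeEquiv fun v => by
      show _ ↔ beta (g * x * g⁻¹) (mat g *ᵥ v) = 0; rw [hb])
  · exact Nat.card_congr ((actEquiv g).subtypeEquiv fun v => by
      show _ ↔ beta (g * x * g⁻¹) (mat g *ᵥ v) = 1; rw [hb])

def fixB (A : M7) (n : ℕ) : Bool := (A.mv (V7.dec n)).beq (V7.dec n)

def betaB (A : M7) (t n : ℕ) : Bool :=
  let v := V7.dec n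
  let w := A.mv v
  ((bilV v (A.mv w) + bilV v w + bilV v v) % 3).beq t

theorem card_fin_filter (n : ℕ) (p : ℕ → Bool) :
    Nat.card {k : Fin n // p k = true} = ((Finset.range n).filter fun m => p m = true).card := by
  classical
  rw [Nat.card_eq_fintype_card, Fintype.card_subtype, ← Finset.card_map Fin.valEmbedding]
  congr 1
  ext m
  simp only [Finset.mem_map, Finset.mem_filter, Finset.mem_univ, true_and, Fin.valEmbedding_apply,
    Finset.mem_range]
  exact ⟨by rintro ⟨k, hk, rfl⟩; exact ⟨k.2, hk⟩, fun ⟨h1, h2⟩ => ⟨⟨m, h1⟩, h2, rfl⟩⟩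

theorem card_vec {P : (I7 → ZMod 3) → Prop} (p : ℕ → Bool) (h : ∀ k : Fin 2187, P (vecOf k) ↔ p k = true) :
    Nat.card {v // P v} = ((Finset.range 2187).filter fun n => p n = true).card := by
  rw [← card_fin_filter]
  exact (Nat.card_congr ((Equiv.ofBijective _ vecOf_bijective).subtypeEquiv
    (p := fun k : Fin 2187 => p k = true) fun k => (h k).symm)).symm

def invB (A : M7) : ℕ × ℕ × ℕ :=
  (((Finset.range 2187).filter fun n => fixB A n = true).card,
   ((Finset.range 2187).filter fun n => betaB A 0 n = true).card,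
   ((Finset.range 2187).filter fun n => betaB A 1 n = true).card)

theorem invariant_eq {x : O7} {A : M7} (hx : mat x = toMat A) : invariant x = invB A := by
  have hb : ∀ (t : ℕ), t < 3 → ∀ k : Fin 2187, beta x (vecOf k) = (t : ZMod 3) ↔ betaB A t k = true := by
    intro t ht k
    rw [beta, vecOf, hx, ← toVec_mv, ← toVec_mv, bil_toVec, bil_toVec, bil_toVec, betaB, Nat.beq_eq,
      ← Nat.cast_add, ← Nat.cast_add, ZMod.natCast_eq_natCast_iff', Nat.mod_eq_of_lt ht]
  rw [invariant, invB, card_vec (fixB A) fun k => ?_, card_vec (betaB A 0) fun k => ?_,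
    card_vec (betaB A 1) fun k => ?_]
  · simpa using hb 1 (by norm_num) k
  · simpa using hb 0 (by norm_num) k
  · show mat x *ᵥ vecOf k = vecOf k ↔ _
    rw [vecOf, hx, ← toVec_mv, fixB]
    refine ⟨fun h => ?_, fun h => by rw [V7.eq_of_beq h]⟩
    rw [eq_of_toVec_dec (fun i => by fin_cases i <;> exact Nat.mod_lt _ (by norm_num)) h]
    simp [V7.beq]

def invList : List (ℕ × ℕ × ℕ) :=
  [(243, 2187, 0), (243, 729, 0), (243, 729, 1458), (27, 729, 1458), (27, 729, 1458), (27, 243, 972), (27, 1215, 486)]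

theorem inv_check : (List.range 7).all (fun k => decide (invB (repM k) = invList.getD k (0, 0, 0)) &&
    decide (invB (M7.mul (repM k) (repM k)) = invList.getD k (0, 0, 0))) = true := by
  decide +kernel

theorem invariant_rep {k : ℕ} (hk : k < 7) : invariant (repO k) = invList.getD k (0, 0, 0) ∧
    invariant (repO k ^ 2) = invList.getD k (0, 0, 0) := by
  have h := List.all_eq_true.1 inv_check k (List.mem_range.2 hk)
  simp only [Bool.and_eq_true, decide_eq_true_eq] at h
  exact ⟨(invariant_eq (mat_repO k)).trans h.1,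
    (invariant_eq (by rw [mat_sq, mat_repO, ← toMat_mul])).trans h.2⟩

/-- Conjugate representatives have equal indices, except perhaps the fourth and the fifth. -/
theorem rep_conj_cases {i j : ℕ} (hi : i < 7) (hj : j < 7) {g : O7}
    (h : g * repO i * g⁻¹ = repO j ∨ g * repO i * g⁻¹ = repO j ^ 2) :
    i = j ∨ (i = 3 ∧ j = 4) ∨ (i = 4 ∧ j = 3) := by
  have e : invList.getD i (0, 0, 0) = invList.getD j (0, 0, 0) := by
    rw [← (invariant_rep hi).1, ← invariant_conj g]
    rcases h with h | h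
    · rw [h, (invariant_rep hj).1]
    · rw [h, (invariant_rep hj).2]
  have key : ∀ a : Fin 7, ∀ b : Fin 7, invList.getD a.val (0, 0, 0) = invList.getD b.val (0, 0, 0) →
      a.val = b.val ∨ (a.val = 3 ∧ b.val = 4) ∨ (a.val = 4 ∧ b.val = 3) := by decide +kernel
  exact key ⟨i, hi⟩ ⟨j, hj⟩ e

end CfsgLib.OmegaSevenThree
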