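import Cfsg.Agent.Lib.OmegaSevenThree.Cover
import Cfsg.Agent.Lib.OmegaSevenThree.Invariant
import Cfsg.Agent.Lib.OmegaSevenThree.Centraliser

/-! The seven classes of subgroups of order three of `PΩ₇(3)`. -/

set_option autoImplicit false

namespace CfsgLib.OmegaSevenThree

open Matrix

/-- The projection. -/
def proj : Om →* Om ⧸ Subgroup.center Om := QuotientGroup.mk' (Subgroup.center Om)

theorem center_eq_bot : Subgroup.center Om = ⊥ := by
  have h2 : (2 : ZMod 3) ≠ 0 := by decide
  have hQ : (QuadraticMap.polarBilin (CfsgLib.Geometry.matQuad (CfsgLib.Geometry.oddMat 3 (ZMod 3)))).Nondegenerate :=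
    CfsgLib.Geometry.nondegenerate_matQuad (by
      rw [CfsgLib.Geometry.det_odd_gram]; exact mul_ne_zero h2 (pow_ne_zero _ (neg_ne_zero.2 one_ne_zero)))
  rw [Subgroup.eq_bot_iff_forall]
  intro z hz
  have hn : 5 ≤ Module.finrank (ZMod 3) (I7 → ZMod 3) := by simp
  have e : qf = ⇑(CfsgLib.Geometry.matQuad (CfsgLib.Geometry.oddMat 3 (ZMod 3))) :=
    (CfsgLib.Geometry.coe_matQuad_odd 3).symm
  have key : ∀ (f : (I7 → ZMod 3) → ZMod 3) (_ : f = ⇑(CfsgLib.Geometry.matQuad (CfsgLib.Geometry.oddMat 3 (ZMod 3))))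
      (y : Cfsg.Omega (ZMod 3) f), y ∈ Subgroup.center (Cfsg.Omega (ZMod 3) f) →
      ∃ t : ZMod 3, t * t = 1 ∧ ∀ v : I7 → ZMod 3,
        ((y.1 : Matrix.GeneralLinearGroup I7 (ZMod 3)) : Matrix I7 I7 (ZMod 3)) *ᵥ v = t • v := by
    rintro f rfl y hy
    have hy' : CfsgLib.Geometry.omegaEquiv _ y ∈
        Subgroup.center (commutator (CfsgLib.Geometry.orth (CfsgLib.Geometry.matQuad (CfsgLib.Geometry.oddMat 3 (ZMod 3))))) :=
      Subgroup.mem_center_iff.2 fun w => by
        obtain ⟨w', rfl⟩ := (CfsgLib.Geometry.omegaEquiv _).surjective w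
        rw [← map_mul, ← map_mul, Subgroup.mem_center_iff.1 hy w']
    obtain ⟨t, ht, htv⟩ := (CfsgLib.Geometry.mem_center_omega_iff hQ hn _).1 hy'
    exact ⟨t, ht, htv⟩
  obtain ⟨t, ht, htv⟩ := key qf e z hz
  rcases mul_self_eq_one_iff.1 ht with rfl | rfl
  · exact Subtype.ext (mat_injective (Matrix.ext_of_mulVec_single fun i => by
      rw [show mat z.1 *ᵥ Pi.single i 1 = _ from htv _, one_smul]
      show _ = mat 1 *ᵥ _
      rw [mat_one, Matrix.one_mulVec]))
  · exfalso
    have hm : z.1 = negO := mat_injective (Matrix.ext_of_mulVec_single fun i => by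
      rw [show mat z.1 *ᵥ Pi.single i 1 = _ from htv _, mat_negO, Matrix.neg_mulVec, Matrix.one_mulVec,
        neg_one_smul])
    have hdet : (mat (1 : O7)).det = 1 := by rw [mat_one, Matrix.det_one]
    exact negO_mul_not_mem hdet (by rw [mul_one, ← hm]; exact z.2)

theorem proj_injective : Function.Injective proj := by
  rw [← MonoidHom.ker_eq_bot_iff, proj, QuotientGroup.ker_mk', center_eq_bot]

theorem proj_surjective : Function.Surjective proj := QuotientGroup.mk'_surjective _

/-- The representatives as elements of `Ω`. -/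
def repOm (k : ℕ) : Om := ⟨repO k, repO_mem k⟩

theorem repM_ne_one : ((List.range 7).all fun k => !(M7.beq (repM k) M7.one)) = true := by decide +kernel

theorem order_repOm {k : ℕ} (hk : k < 7) : orderOf (proj (repOm k)) = 3 := by
  haveI : Fact (Nat.Prime 3) := ⟨Nat.prime_three⟩
  rw [orderOf_injective proj proj_injective]
  refine orderOf_eq_prime (Subtype.ext (repO_cube k)) fun h => ?_
  have e : toMat (repM k) = toMat M7.one := by
    rw [toMat_one, ← mat_repO, show repO k = 1 from congrArg Subtype.val h, mat_one]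
  have h1 := List.all_eq_true.1 repM_ne_one k (List.mem_range.2 hk)
  have hlt : ∀ A : M7, M7.mul A M7.one = A → ∀ i j, (A.get i).get j < 3 := fun A hA i j => by
    rw [← hA, get_mul]; exact Nat.mod_lt _ (by norm_num)
  have h2 : ((List.range 7).all fun a => M7.beq (M7.mul (repM a) M7.one) (repM a)) = true := by decide +kernel
  rw [toMat_inj_get e (hlt _ (M7.eq_of_beq (List.all_eq_true.1 h2 k (List.mem_range.2 hk))))
    (hlt _ (by rfl))] at h1
  simp [M7.beq, V7.beq] at h1

/-- The statement. -/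
theorem main : ∃ Y : Fin 7 → Subgroup (Cfsg.POmega (ZMod 3) qf), (∀ i, Nat.card (Y i) = 3) ∧
    (∀ i j, (∃ g : Cfsg.POmega (ZMod 3) qf, (Y i).map (MulAut.conj g).toMonoidHom = Y j) → i = j) ∧
    (∀ X : Subgroup (Cfsg.POmega (ZMod 3) qf), Nat.card X = 3 →
      ∃ i, ∃ g : Cfsg.POmega (ZMod 3) qf, X.map (MulAut.conj g).toMonoidHom = Y i) := by
  haveI : Fact (Nat.Prime 3) := ⟨Nat.prime_three⟩
  refine ⟨fun i => Subgroup.zpowers (proj (repOm i)), fun i => ?_, ?_, ?_⟩
  · rw [Nat.card_zpowers]; exact order_repOm i.2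
  · rintro i j ⟨g, hg⟩
    obtain ⟨g', rfl⟩ := proj_surjective g
    have hmem : proj g' * proj (repOm i) * (proj g')⁻¹ ∈ Subgroup.zpowers (proj (repOm j)) := by
      simp only at hg
      rw [← hg]; exact ⟨_, Subgroup.mem_zpowers _, rfl⟩
    obtain ⟨m, hm, he⟩ : ∃ m, m < 3 ∧ proj g' * proj (repOm i) * (proj g')⁻¹ = proj (repOm j) ^ m := by
      obtain ⟨m, hm⟩ := (mem_powers_iff_mem_zpowers).2 hmem
      refine ⟨m % 3, Nat.mod_lt _ (by norm_num), ?_⟩
      have e := pow_mod_orderOf (proj (repOm j)) m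
      rw [order_repOm j.2] at e
      exact hm.symm.trans e.symm
    rw [← map_mul, ← map_inv, ← map_mul, ← map_pow] at he
    have he' : g'.1 * repO i * g'.1⁻¹ = repO j ^ m := congrArg Subtype.val (proj_injective he)
    have hne : m ≠ 0 := by
      rintro rfl
      rw [pow_zero, conj_eq_one_iff] at he'
      have := order_repOm i.2
      rw [show repOm i = 1 from Subtype.ext he', map_one, orderOf_one] at this
      norm_num at this
    have hor : g'.1 * repO i * g'.1⁻¹ = repO j ∨ g'.1 * repO i * g'.1⁻¹ = repO j ^ 2 := by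
      rcases (by omega : m = 1 ∨ m = 2) with rfl | rfl
      · exact Or.inl (by rw [he', pow_one])
      · exact Or.inr he'
    rcases rep_conj_cases i.2 j.2 hor with h | ⟨h3, h4⟩ | ⟨h4, h3⟩
    · exact Fin.ext h
    · exfalso
      rw [h3, h4] at hor
      exact not_conj_split g'.2 hor
    · exfalso
      rw [h3, h4] at hor
      refine not_conj_split (g := g'.1⁻¹) (inv_mem g'.2) ?_
      rcases hor with h | h
      · exact Or.inl (by rw [← h]; group)
      · refine Or.inr ?_
        have h2 : g'.1⁻¹ * repO 3 ^ 2 * g'.1⁻¹⁻¹ = repO 4 := by rw [← h]; group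
        rw [← conj_pow] at h2
        rw [← h2, ← pow_mul, show 2 * 2 = 3 + 1 from rfl, pow_add, conj_pow (i := 3), repO_cube, mul_one,
          mul_inv_cancel, one_mul, pow_one]
  · intro X hX
    haveI : IsCyclic X := isCyclic_of_prime_card hX
    obtain ⟨⟨x, hxX⟩, hgen⟩ := IsCyclic.exists_generator (α := X)
    have hXe : X = Subgroup.zpowers x := by
      refine le_antisymm (fun y hy => ?_) (by rwa [Subgroup.zpowers_le])
      obtain ⟨k, hk⟩ := hgen ⟨y, hy⟩
      exact ⟨k, congrArg Subtype.val hk⟩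
    obtain ⟨y, rfl⟩ := proj_surjective x
    have ho : orderOf (proj y) = 3 := by rw [← Nat.card_zpowers, ← hXe, hX]
    rw [orderOf_injective proj proj_injective] at ho
    have h3 : y.1 ^ 3 = 1 := by
      have e := pow_orderOf_eq_one y
      rw [ho] at e
      exact congrArg Subtype.val e
    have h1 : y.1 ≠ 1 := fun h => by
      rw [show y = 1 from Subtype.ext h, orderOf_one] at ho; norm_num at ho
    obtain ⟨g, hg, k, hk, he⟩ := covered y.2 h3 h1
    refine ⟨⟨k, hk⟩, proj ⟨g, hg⟩, ?_⟩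
    show X.map (MulAut.conj (proj ⟨g, hg⟩)).toMonoidHom = Subgroup.zpowers (proj (repOm k))
    rw [hXe, MonoidHom.map_zpowers]
    show Subgroup.zpowers (proj ⟨g, hg⟩ * proj y * (proj ⟨g, hg⟩)⁻¹) = _
    rw [← map_mul, ← map_inv, ← map_mul]
    rcases he with he | he
    · rw [show (⟨g, hg⟩ : Om) * y * ⟨g, hg⟩⁻¹ = repOm k from Subtype.ext he]
    · rw [show (⟨g, hg⟩ : Om) * y * ⟨g, hg⟩⁻¹ = repOm k ^ 2 from Subtype.ext he, map_pow]
      refine le_antisymm (Subgroup.zpowers_le.2 (pow_mem (Subgroup.mem_zpowers _) 2))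
        (Subgroup.zpowers_le.2 ⟨2, ?_⟩)
      show (proj (repOm k) ^ 2) ^ (2 : ℤ) = _
      have e4 : (proj (repOm k) ^ 2) ^ 2 = proj (repOm k) := by
        have e := pow_orderOf_eq_one (proj (repOm k))
        rw [order_repOm hk] at e
        rw [← pow_mul, show 2 * 2 = 3 + 1 from rfl, pow_add, e, one_mul, pow_one]
      exact (zpow_natCast _ 2).trans e4

end CfsgLib.OmegaSevenThree
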