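import Cfsg.Agent.Lib.OmegaSevenThree.Group

/-! Computing with the polar form and with vectors encoded by numbers. -/

set_option autoImplicit false

namespace CfsgLib.OmegaSevenThree

open Matrix

/-- The polar form. -/
def bil (u v : I7 → ZMod 3) : ZMod 3 := u ⬝ᵥ (toMat M7.gramMat *ᵥ v)

theorem bil_eq (u v : I7 → ZMod 3) : bil u v = qf (u + v) - qf u - qf v := by
  have hs : toMat M7.gramMat = (toMat M7.gramMat)ᵀ := by decide
  have hsym : v ⬝ᵥ (toMat M7.gramMat *ᵥ u) = u ⬝ᵥ (toMat M7.gramMat *ᵥ v) := by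
    rw [Matrix.dotProduct_mulVec, ← Matrix.mulVec_transpose, ← hs, dotProduct_comm]
  have h4 : (4 : ZMod 3) = 1 := by decide
  rw [qf, quadForm_eq, quadForm_eq, quadForm_eq, Matrix.mulVec_add, dotProduct_add, add_dotProduct,
    add_dotProduct, hsym, bil]
  linear_combination -(u ⬝ᵥ (toMat M7.gramMat *ᵥ v)) * h4

theorem bil_mat (g : O7) (u v : I7 → ZMod 3) : bil (mat g *ᵥ u) (mat g *ᵥ v) = bil u v := by
  rw [bil_eq, bil_eq, ← Matrix.mulVec_add, qf_mat, qf_mat, qf_mat]

def bilV (u v : V7) : ℕ := u.dot (V7.gram v)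

theorem toVec_gram (v : V7) : toVec (V7.gram v) = toMat M7.gramMat *ᵥ toVec v := by
  funext i
  rcases i with _ | (i | i)
  all_goals try fin_cases i
  all_goals simp [toVec, toMat, Matrix.mulVec, dotProduct, M7.gramMat, M7.get, V7.get, V7.gram, ix,
    Fintype.sum_sum_type, Fin.sum_univ_three, ZMod.natCast_mod]

theorem bil_toVec (u v : V7) : bil (toVec u) (toVec v) = ((bilV u v : ℕ) : ZMod 3) := by
  rw [bil, ← toVec_gram, bilV, V7.dot, ZMod.natCast_mod]
  simp only [dotProduct, toVec]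
  rw [sum_ix fun k => ((u.get k : ℕ) : ZMod 3) * (((V7.gram v).get k : ℕ) : ZMod 3), Fin.sum_univ_seven]
  simp [V7.get]

theorem get_dec_lt (n : ℕ) (k : Fin 7) : (V7.dec n).get k < 3 := by
  fin_cases k <;> exact Nat.mod_lt _ (by norm_num)

/-- The vector with a given code. -/
def vecOf (k : Fin 2187) : I7 → ZMod 3 := toVec (V7.dec k)

theorem eq_of_toVec_dec {u : V7} {n : ℕ} (hu : ∀ k, u.get k < 3) (h : toVec u = toVec (V7.dec n)) :
    u = V7.dec n := by
  have key : ∀ k : Fin 7, u.get k = (V7.dec n).get k := fun k => by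
    have e : ix (ix' k) = k := by revert k; decide
    have := congrFun h (ix' k)
    rw [toVec, toVec, e] at this
    simpa [ZMod.natCast_eq_natCast_iff', Nat.mod_eq_of_lt (hu k), Nat.mod_eq_of_lt (get_dec_lt n k)] using this
  obtain ⟨a, b, c, d, e, f, g⟩ := u
  exact (congr (congr (congr (congr (congr (congr (congrArg V7.mk (key 0)) (key 1)) (key 2)) (key 3)) (key 4))
    (key 5)) (key 6) : _)

theorem enc_dec {n : ℕ} (hn : n < 2187) : (V7.dec n).enc = n := by
  simp only [V7.dec, V7.enc]; omega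

theorem vecOf_bijective : Function.Bijective vecOf := by
  refine (Fintype.bijective_iff_injective_and_card _).2 ⟨fun a b h => Fin.ext ?_, ?_⟩
  · have := eq_of_toVec_dec (get_dec_lt a) h
    rw [← enc_dec a.2, ← enc_dec b.2, this]
  · simp [Fintype.card_fun]

end CfsgLib.OmegaSevenThree
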