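import Cfsg.Agent.Lib.OmegaSevenThree.Sylow

/-! The tables contain every element of order three. -/

set_option autoImplicit false

namespace CfsgLib.OmegaSevenThree

open Matrix

def idxAt (i j : ℕ) : ℕ := (((idxTab.getD (i / 27) []).getD (i % 27) [])).getD j 0

def units : List V7 := [⟨0, 0, 0, 0, 1, 0, 0⟩, ⟨0, 0, 0, 0, 0, 1, 0⟩, ⟨0, 0, 0, 0, 0, 0, 1⟩,
  ⟨1, 0, 0, 0, 0, 0, 0⟩, ⟨0, 1, 0, 0, 0, 0, 0⟩, ⟨0, 0, 1, 0, 0, 0, 0⟩, ⟨0, 0, 0, 1, 0, 0, 0⟩]

def step (i j : ℕ) (v : V7) : V7 := (vM i).mv ((hM j).mv v)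

/-- A vector moved by the cube. -/
def notCube (i j : ℕ) : Bool := units.any fun e => !((step i j (step i j (step i j e))).beq e)

def chkCode (i : ℕ) : Bool :=
  (List.range 81).all fun j =>
    let n := idxAt i j
    if n = 0 then (i == 0 && j == 0) || notCube i j
    else decide (n ≤ 5102) && ((((entries.getD ((n - 1) / 100) []).getD ((n - 1) % 100) (0, [], false, 0))).1 == i * 81 + j)

theorem codeA : ((List.range 81).all chkCode) = true := by decide +kernel
theorem codeB : ((List.range 81).all fun t => chkCode (81 + t)) = true := by decide +kernel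
theorem codeC : ((List.range 81).all fun t => chkCode (162 + t)) = true := by decide +kernel

theorem step_fix {i j : ℕ} {x : O7} (hx : mat x = toMat (M7.mul (vM i) (hM j))) (h3 : x ^ 3 = 1) :
    notCube i j = false := by
  have hs : ∀ v, toVec (step i j v) = mat x *ᵥ toVec v := fun v => by
    rw [step, toVec_mv, toVec_mv, Matrix.mulVec_mulVec, hx, toMat_mul]
  have hu : units.all (fun e => ([0, 1, 2, 3, 4, 5, 6] : List (Fin 7)).all fun k => decide (e.get k < 3)) = true := by
    decide
  rw [notCube, List.any_eq_false]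
  intro e he
  have key : step i j (step i j (step i j e)) = e := by
    refine toVec_inj_get ?_ (mv_lt _ _) fun k => ?_
    · rw [hs, hs, hs, Matrix.mulVec_mulVec, Matrix.mulVec_mulVec, ← mat_mul, ← mat_mul, ← pow_two,
        ← pow_succ, h3, mat_one, Matrix.one_mulVec]
    · have h := List.all_eq_true.1 (List.all_eq_true.1 hu e he) k (by fin_cases k <;> simp)
      simpa using h
  rw [key]
  simp [V7.beq]

end CfsgLib.OmegaSevenThree
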