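import Cfsg.Agent.Lib.OmegaSevenThree.CoverEntries
import Cfsg.Agent.Lib.OmegaSevenThree.CoverCodes

/-! Every element of order three of `Ω₇(3)` is conjugate to one of seven, up to inversion. -/

set_option autoImplicit false

namespace CfsgLib.OmegaSevenThree

open Matrix

theorem covered {x : O7} (hx : x ∈ Om) (h3 : x ^ 3 = 1) (h1 : x ≠ 1) : Covered x := by
  obtain ⟨g, hg, hu⟩ := exists_conj_mem_U3 hx h3
  refine Covered.of_conj hg ?_
  set y := g * x * g⁻¹ with hy
  have hy3 : y ^ 3 = 1 := by rw [hy, conj_pow, h3, mul_one, mul_inv_cancel]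
  have hy1 : y ≠ 1 := fun h => h1 (by rwa [hy, conj_eq_one_iff] at h)
  obtain ⟨i, j, hi, hj, hm⟩ := mem_table hu
  have hc : chkCode i = true := by
    rcases lt_or_ge i 81 with h | h
    · exact List.all_eq_true.1 codeA i (List.mem_range.2 h)
    rcases lt_or_ge i 162 with h' | h'
    · have := List.all_eq_true.1 codeB (i - 81) (List.mem_range.2 (by omega))
      rwa [Nat.add_sub_cancel' h] at this
    · have := List.all_eq_true.1 codeC (i - 162) (List.mem_range.2 (by omega))
      rwa [Nat.add_sub_cancel' h'] at this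
  have hcj := List.all_eq_true.1 hc j (List.mem_range.2 hj)
  simp only at hcj
  split at hcj
  · rw [Bool.or_eq_true, Bool.and_eq_true, beq_iff_eq, beq_iff_eq] at hcj
    rcases hcj with ⟨rfl, rfl⟩ | hcj
    · refine absurd (mat_injective ?_) hy1
      have h := zero_check
      simp only [Bool.and_eq_true] at h
      rw [hm, toMat_mul, M7.eq_of_beq h.1, M7.eq_of_beq h.2, toMat_one, one_mul, mat_one]
    · rw [step_fix hm hy3] at hcj
      exact Bool.false_ne_true hcj |>.elim
  · simp only [Bool.and_eq_true, decide_eq_true_eq, beq_iff_eq] at hcj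
    refine covered_entry (idxAt i j - 1) (by omega) y ?_ hy3
    rw [codeM, entry, hcj.2, show (i * 81 + j) / 81 = i by omega, show (i * 81 + j) % 81 = j by omega, hm]

end CfsgLib.OmegaSevenThree
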