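import Cfsg.Agent.Lib.OmegaSevenThree.Sylow

/-! The tabulated elements are conjugate to seven representatives, up to inversion. -/

set_option autoImplicit false

namespace CfsgLib.OmegaSevenThree

open Matrix

def entry (k : ℕ) : ℕ × List ℕ × Bool × ℕ :=
  (entries.getD (k / 100) []).getD (k % 100) (0, [], false, 0)

def codeM (c : ℕ) : M7 := M7.mul (vM (c / 81)) (hM (c % 81))

def chkEntry (k : ℕ) : Bool :=
  Nat.ble 5102 k ||
  match entry k with
  | (c, w, s, p) =>
    if k < 7 then M7.beq (codeM c) (repM k)
    else
      let x := codeM c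
      let y := codeM (entry p).1
      let g := wordM w
      decide (p < k) && M7.cubeOne y &&
        M7.beq (M7.mul g x) (M7.mul (if s then M7.mul y y else y) g)

theorem chkA : ((List.range 1300).all chkEntry) = true := by decide +kernel
theorem chkB : ((List.range 1300).all fun t => chkEntry (1300 + t)) = true := by decide +kernel
theorem chkC : ((List.range 1300).all fun t => chkEntry (2600 + t)) = true := by decide +kernel
theorem chkD : ((List.range 1300).all fun t => chkEntry (3900 + t)) = true := by decide +kernel

theorem chkEntry_all {k : ℕ} (hk : k < 5102) : chkEntry k = true := by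
  have key : ∀ b, ((List.range 1300).all fun t => chkEntry (b + t)) = true → b ≤ k → k < b + 1300 →
      chkEntry k = true := fun b h h1 h2 => by
    have := List.all_eq_true.1 h (k - b) (List.mem_range.2 (by omega))
    rwa [Nat.add_sub_cancel' h1] at this
  rcases lt_or_ge k 1300 with h | h
  · exact List.all_eq_true.1 chkA k (List.mem_range.2 h)
  rcases lt_or_ge k 2600 with h' | h'
  · exact key _ chkB h (by omega)
  rcases lt_or_ge k 3900 with h'' | h''
  · exact key _ chkC h' (by omega)
  · exact key _ chkD h'' (by omega)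

/-- The conjugacy statement for one element. -/
def Covered (x : O7) : Prop :=
  ∃ g ∈ Om, ∃ k < 7, g * x * g⁻¹ = repO k ∨ g * x * g⁻¹ = repO k ^ 2

theorem Covered.of_sq {x : O7} (h3 : x ^ 3 = 1) (h : Covered (x ^ 2)) : Covered x := by
  obtain ⟨g, hg, k, hk, he⟩ := h
  have hx : x = (x ^ 2) ^ 2 := by
    rw [← pow_mul, show 2 * 2 = 3 + 1 from rfl, pow_add, h3, one_mul, pow_one]
  have hc : g * x * g⁻¹ = (g * x ^ 2 * g⁻¹) ^ 2 := by rw [conj_pow, ← hx]
  refine ⟨g, hg, k, hk, ?_⟩
  rcases he with he | he
  · exact Or.inr (by rw [hc, he])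
  · refine Or.inl (by rw [hc, he, ← pow_mul, show 2 * 2 = 3 + 1 from rfl, pow_add, repO_cube, one_mul, pow_one])

theorem Covered.of_conj {x a : O7} (ha : a ∈ Om) (h : Covered (a * x * a⁻¹)) : Covered x := by
  obtain ⟨g, hg, k, hk, he⟩ := h
  refine ⟨g * a, mul_mem hg ha, k, hk, ?_⟩
  have e : g * a * x * (g * a)⁻¹ = g * (a * x * a⁻¹) * g⁻¹ := by group
  rwa [e]

theorem covered_entry : ∀ k, k < 5102 → ∀ x : O7, mat x = toMat (codeM (entry k).1) → x ^ 3 = 1 →
    Covered x := by
  intro k
  induction k using Nat.strong_induction_on with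
  | _ k ih =>
    intro hk x hx h3
    have h := chkEntry_all hk
    rw [chkEntry, Bool.or_eq_true, Nat.ble_eq] at h
    have h' := h.resolve_left (by omega)
    obtain ⟨c, w, s, p, he⟩ : ∃ c w s p, entry k = (c, w, s, p) :=
      ⟨(entry k).1, (entry k).2.1, (entry k).2.2.1, (entry k).2.2.2, rfl⟩
    rw [he] at h' hx
    simp only at h' hx
    split at h'
    · rename_i hk7
      refine ⟨1, one_mem _, k, hk7, Or.inl ?_⟩
      rw [one_mul, inv_one, mul_one]
      exact mat_injective (by rw [hx, mat_repO, M7.eq_of_beq h'])
    · simp only [Bool.and_eq_true, decide_eq_true_eq] at h'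
      obtain ⟨⟨hp, hc⟩, hb⟩ := h'
      have hy := congrArg toMat (M7.eq_of_beq hb)
      refine Covered.of_conj (wordO_mem w) ?_
      set x' := wordO w * x * (wordO w)⁻¹ with hx'
      have h3' : x' ^ 3 = 1 := by rw [hx', conj_pow, h3, mul_one, mul_inv_cancel]
      have hm : mat x' = toMat (if s then M7.mul (codeM (entry p).1) (codeM (entry p).1)
          else codeM (entry p).1) := by
        rw [hx', mat_mul, mat_mul, mat_wordO, hx, ← toMat_mul, hy, toMat_mul, mul_assoc,
          ← mat_wordO, mat_mul_inv, mul_one]
      have hp' : p < 5102 := by omega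
      cases s with
      | false => exact ih p hp hp' x' (by simpa using hm) h3'
      | true =>
        refine Covered.of_sq h3' (ih p hp hp' _ ?_ ?_)
        · have hcube := congrArg toMat (M7.eq_of_beq hc)
          simp only [if_true] at hm
          rw [toMat_mul, toMat_mul, toMat_one] at hcube
          rw [mat_sq, hm, toMat_mul]
          set B := toMat (codeM (entry p).1)
          calc B * B * (B * B) = B * (B * (B * B)) := by rw [mul_assoc]
            _ = B := by rw [hcube, mul_one]
        · rw [← pow_mul, mul_comm, pow_mul, h3', one_pow]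

end CfsgLib.OmegaSevenThree
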